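import Groth.Agent.Lib.DivPart.Basic
import Groth.Agent.Lib.NormalSerre.AssPrincipal
import Groth.Agent.Lib.ParaLocal.Factorial
import Groth.Agent.Lib.UFDPunct.Local
import Groth.Prelude.Def_CInt

/-!
# Effective Cartier divisors on normal schemes are detected after proper dominant pullback
-/

set_option autoImplicit false
set_option linter.all false
set_option backward.isDefEq.respectTransparency false

universe u

open CategoryTheory AlgebraicGeometry TopologicalSpace IsLocalRing

noncomputable section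

namespace GrothLib.CartierPB

open GrothLib.CartierDescent (stalkIdeal stalkIdeal_eq stalkIdeal_eq_top_iff stalkIdeal_map_specializes
  exists_stalk_generator exists_of_mem_span_stalkSpecializes stalkIdeal_comap exists_specializes_eq)
open GrothLib.BlowUp (exists_affine_mem_le)

theorem dvd_total_of_dim_le_one {A : Type u} [CommRing A] [IsLocalRing A] [IsNoetherianRing A] [IsDomain A]
    [IsIntegrallyClosed A] (h : (maximalIdeal A).height ≤ 1) (a b : A) : a ∣ b ∨ b ∣ a := by
  have : Ring.DimensionLEOne A := ⟨fun {P} hP hPp => by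
    by_contra hmax
    have hlt : P < maximalIdeal A := lt_of_le_of_ne (le_maximalIdeal hPp.ne_top)
      fun e => hmax (e ▸ maximalIdeal.isMaximal A)
    have h1 := Ideal.height_strict_mono_of_isPrime_of_isPrime (bot_lt_iff_ne_bot.2 hP)
    have h2 := Ideal.height_strict_mono_of_isPrime_of_isPrime hlt
    rw [Ideal.height_bot] at h1
    exact absurd (h2.trans_le h) (not_lt.2 (Order.one_le_iff_pos.2 h1))⟩
  have : IsDedekindRing A := { }
  have : IsDedekindDomain A := { }
  have : Finite (MaximalSpectrum A) := inferInstance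
  have : IsPrincipalIdealRing A := IsDedekindDomain.isPrincipalIdealRing A
  have : ValuationRing A := inferInstance
  exact ValuationRing.dvd_total a b

variable {S S' : Scheme.{u}} (f : S' ⟶ S)

/-- Generators of a divisor supported off `U` stay regular upstairs. -/
theorem mem_nonZeroDivisors_stalkMap (U : S.Opens) (hU' : CInt.IsSchematicallyDense (f ⁻¹ᵁ U))
    {D : S.IdealSheafData} (hD : BlowUp.IsEffCartierIdeal D) (hDU : (D.support : Set S) ⊆ (U : Set S)ᶜ)
    (s' : S') {γ : S.presheaf.stalk (f s')} (hγ : stalkIdeal D (f s') = Ideal.span {γ}) :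
    (f.stalkMap s').hom γ ∈ nonZeroDivisors (S'.presheaf.stalk s') := by
  obtain ⟨V, hV, g, -, hg⟩ := hD (f s')
  rw [stalkIdeal_eq D V hV, hg, Ideal.map_span, Set.image_singleton] at hγ
  suffices h : S'.presheaf.germ (f ⁻¹ᵁ V.1) s' hV (f.app V.1 g) ∈ nonZeroDivisors (S'.presheaf.stalk s') by
    obtain ⟨e, he⟩ := Ideal.mem_span_singleton'.1 (hγ ▸ Ideal.mem_span_singleton_self _ :
      S.presheaf.germ V.1 (f s') hV g ∈ Ideal.span {γ})
    rw [← Scheme.Hom.germ_stalkMap_apply f V.1 s' hV] at h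
    rw [← he] at h
    change (f.stalkMap s').hom (e * γ) ∈ _ at h
    rw [map_mul] at h
    exact (mul_mem_nonZeroDivisors.1 h).2
  refine mem_nonZeroDivisors_iff_right.2 fun a ha => ?_
  obtain ⟨W, hW, b, rfl⟩ := S'.presheaf.germ_exist a
  let gW := S'.presheaf.map (homOfLE (inf_le_right : W ⊓ f ⁻¹ᵁ V.1 ≤ _)).op (f.app V.1 g)
  let bW := S'.presheaf.map (homOfLE (inf_le_left : W ⊓ f ⁻¹ᵁ V.1 ≤ W)).op b
  have h0 : S'.presheaf.germ _ s' (show s' ∈ W ⊓ f ⁻¹ᵁ V.1 from ⟨hW, hV⟩) (bW * gW) = 0 := by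
    rw [map_mul, TopCat.Presheaf.germ_res_apply, TopCat.Presheaf.germ_res_apply]
    exact ha
  obtain ⟨W', hW', i₁, i₂, hWW⟩ := S'.presheaf.germ_eq (U := W ⊓ f ⁻¹ᵁ V.1) (V := W ⊓ f ⁻¹ᵁ V.1) s' ⟨hW, hV⟩ ⟨hW, hV⟩ (bW * gW) 0 (h0.trans (map_zero _).symm)
  rw [map_zero, map_mul] at hWW
  have hu : IsUnit (S'.presheaf.map (homOfLE (inf_le_left : W' ⊓ f ⁻¹ᵁ U ≤ W')).op (S'.presheaf.map i₁.op gW)) := by
    refine S'.toRingedSpace.isUnit_of_isUnit_germ _ _ fun z hz => ?_
    erw [TopCat.Presheaf.germ_res_apply, TopCat.Presheaf.germ_res_apply, TopCat.Presheaf.germ_res_apply]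
    have hzV : f z ∈ V.1 := (i₁.le hz.1).2
    rw [← Scheme.Hom.germ_stalkMap_apply f V.1 z hzV]
    refine IsUnit.map (f.stalkMap z).hom ?_
    have htop : stalkIdeal D (f z) = ⊤ := (stalkIdeal_eq_top_iff D _).2 fun h => hDU h hz.2
    rw [stalkIdeal_eq D V hzV, hg, Ideal.map_span, Set.image_singleton, Ideal.span_singleton_eq_top] at htop
    exact htop
  have hb : S'.presheaf.map i₁.op bW = 0 := by
    refine hU' W' ?_
    rw [map_zero]
    have := congrArg (S'.presheaf.map (homOfLE (inf_le_left : W' ⊓ f ⁻¹ᵁ U ≤ W')).op) hWW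
    rw [map_zero, map_mul] at this
    exact hu.mul_left_eq_zero.1 this
  have := congrArg (S'.presheaf.germ W' s' hW') hb
  rwa [map_zero, TopCat.Presheaf.germ_res_apply, TopCat.Presheaf.germ_res_apply] at this

theorem le_of_comap_eq [IsLocallyNoetherian S]
    (hnorm : ∀ x : S, IsDomain (S.presheaf.stalk x) ∧ IsIntegrallyClosed (S.presheaf.stalk x))
    [IsProper f] (hdom : f.ker = ⊥) (U : S.Opens) (hU' : CInt.IsSchematicallyDense (f ⁻¹ᵁ U))
    {D E : S.IdealSheafData} (hD : BlowUp.IsEffCartierIdeal D) (hE : BlowUp.IsEffCartierIdeal E)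
    (hDU : (D.support : Set S) ⊆ (U : Set S)ᶜ) (hEU : (E.support : Set S) ⊆ (U : Set S)ᶜ)
    (h : D.comap f = E.comap f) : D ≤ E := by
  refine GrothLib.DivPart.le_of_stalkIdeal fun x => ?_
  obtain ⟨_, _⟩ := hnorm x
  obtain ⟨γD, hγD, hD'⟩ := exists_stalk_generator hD x
  obtain ⟨γE, hγE, hE'⟩ := exists_stalk_generator hE x
  rw [hD', hE', Ideal.span_singleton_le_iff_mem]
  by_contra hne
  let A := S.presheaf.stalk x
  let J : Ideal A := (Submodule.span A {Ideal.Quotient.mk (Ideal.span {γE}) γD}).annihilator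
  obtain ⟨P, hP, hPle⟩ := exists_le_isAssociatedPrime_of_isNoetherianRing A
    (Ideal.Quotient.mk (Ideal.span {γE}) γD) (fun h0 => hne (Ideal.Quotient.eq_zero_iff_mem.1 h0))
  haveI := hP.isPrime
  have hh1 : P.height = 1 := NormalSerre.height_eq_one_of_mem_associatedPrimes
    (nonZeroDivisors.ne_zero hγE) hP
  obtain ⟨x', hx', hPeq, hx'eq⟩ := exists_specializes_eq x P
  have hdim : (maximalIdeal (S.presheaf.stalk x')).height ≤ 1 := by
    subst hx'eq
    obtain ⟨e1⟩ := ParaLocal.nonempty_stalk_equiv x (⟨P, inferInstance⟩ : Spec (S.presheaf.stalk x))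
    obtain ⟨e2⟩ := UFDPunct.nonempty_stalkEquiv (A := A) (⟨P, inferInstance⟩ : Spec (S.presheaf.stalk x))
    have he := ringKrullDim_eq_of_ringEquiv (e1.trans e2)
    rw [← IsLocalRing.maximalIdeal_height_eq_ringKrullDim, IsLocalization.AtPrime.ringKrullDim_eq_height P,
      WithBot.coe_eq_coe, hh1] at he
    exact le_of_eq he
  obtain ⟨_, _⟩ := hnorm x'
  have hsurj : Function.Surjective f := by
    intro y
    have hcl : IsClosed (Set.range f) := f.isClosedMap.isClosed_range
    have h2 : (f.ker.support : Set S) = closure (Set.range f) := Scheme.Hom.support_ker f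
    rw [hdom, hcl.closure_eq, Scheme.IdealSheafData.support_bot] at h2
    exact (h2 ▸ Set.mem_univ y : y ∈ Set.range f)
  obtain ⟨s', hs'⟩ := hsurj x'
  let π := S.presheaf.stalkSpecializes hx'
  have hkey : Ideal.span {π γD} = Ideal.span {π γE} := by
    have hD2 : stalkIdeal D x' = Ideal.span {π γD} := by
      rw [← stalkIdeal_map_specializes D hx', hD', Ideal.map_span, Set.image_singleton]
    have hE2 : stalkIdeal E x' = Ideal.span {π γE} := by
      rw [← stalkIdeal_map_specializes E hx', hE', Ideal.map_span, Set.image_singleton]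
    rw [← hD2, ← hE2]
    subst hs'
    have hcom : (stalkIdeal D (f s')).map (f.stalkMap s').hom = (stalkIdeal E (f s')).map (f.stalkMap s').hom := by
      rw [← stalkIdeal_comap, ← stalkIdeal_comap, h]
    obtain ⟨a, -, ha⟩ := exists_stalk_generator hD (f s')
    obtain ⟨b, -, hb⟩ := exists_stalk_generator hE (f s')
    have ka := mem_nonZeroDivisors_stalkMap f U hU' hD hDU s' ha
    have kb := mem_nonZeroDivisors_stalkMap f U hU' hE hEU s' hb
    rw [ha, hb] at hcom ⊢
    rw [Ideal.map_span, Ideal.map_span, Set.image_singleton, Set.image_singleton] at hcom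
    have aux : ∀ p q : S.presheaf.stalk (f s'), p ∣ q →
        (f.stalkMap s').hom p ∈ nonZeroDivisors (S'.presheaf.stalk s') →
        (f.stalkMap s').hom p ∈ Ideal.span {(f.stalkMap s').hom q} → Ideal.span {p} = Ideal.span {q} := by
      rintro p q ⟨c, rfl⟩ hp hmem
      obtain ⟨d, hd⟩ := Ideal.mem_span_singleton'.1 hmem
      rw [map_mul] at hd
      have hc : (f.stalkMap s').hom c * d = 1 := by
        have : (f.stalkMap s').hom p * ((f.stalkMap s').hom c * d - 1) = 0 := by
          rw [mul_sub, mul_one, sub_eq_zero]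
          linear_combination hd
        exact sub_eq_zero.1 ((mul_right_mem_nonZeroDivisors_eq_zero_iff hp).1 ((mul_comm _ _).trans this))
      have : IsUnit c := isUnit_of_map_unit (f.stalkMap s').hom c (IsUnit.of_mul_eq_one _ hc)
      exact (Ideal.span_singleton_mul_right_unit this p).symm
    rcases dvd_total_of_dim_le_one hdim a b with hab | hab
    · exact aux a b hab ka (hcom ▸ Ideal.mem_span_singleton_self _)
    · exact (aux b a hab kb (hcom ▸ Ideal.mem_span_singleton_self _)).symm
  obtain ⟨u, hu, hub⟩ := exists_of_mem_span_stalkSpecializes hx'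
    (hkey ▸ Ideal.mem_span_singleton_self (π γD) : π γD ∈ Ideal.span {π γE})
  refine hu (hPeq ▸ hPle ?_)
  rw [Submodule.mem_colon_singleton, Submodule.mem_bot]
  show u • Ideal.Quotient.mk _ γD = 0
  rw [Algebra.smul_def, Ideal.Quotient.algebraMap_eq, ← map_mul, Ideal.Quotient.eq_zero_iff_mem]
  exact hub

end GrothLib.CartierPB
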